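import Mathlib.AlgebraicGeometry.Morphisms.QuasiCompact
import Mathlib.AlgebraicGeometry.Morphisms.UnderlyingMap
import Mathlib.RingTheory.Spectrum.Prime.Topology

set_option autoImplicit false
open CategoryTheory AlgebraicGeometry Topology
universe u

namespace Groth.Agent.Topo.QCImage

theorem exists_specializes_of_mem_closure_range {X Y : Scheme.{u}} (f : X ⟶ Y) [QuasiCompact f]
    {y : Y} (hy : y ∈ closure (Set.range f)) : ∃ x : X, f x ⤳ y := by
  obtain ⟨U, hU, hyU⟩ : ∃ U : Y.Opens, IsAffineOpen U ∧ y ∈ U := by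
    obtain ⟨_, ⟨U, hU, rfl⟩, hyU, -⟩ :=
      Y.isBasis_affineOpens.exists_subset_of_mem_open (Set.mem_univ y) isOpen_univ
    exact ⟨U, hU, hyU⟩
  obtain ⟨R, p, hp⟩ := isCompact_iff_exists.mp (f.isCompact_preimage (U := U) hU.isCompact)
  have hpr : Set.range p ⊆ f ⁻¹' (U : Set Y) := hp.le
  let q : Spec R ⟶ U := IsOpenImmersion.lift U.ι (p ≫ f) (by
    rintro _ ⟨a, rfl⟩; rw [Scheme.Opens.range_ι]; exact hpr ⟨a, rfl⟩)
  obtain ⟨φ, hφ⟩ := Spec.map_surjective (q ≫ hU.isoSpec.hom)
  have hcomp : Spec.map φ ≫ hU.fromSpec = p ≫ f := by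
    rw [hφ, Category.assoc, IsAffineOpen.fromSpec, hU.isoSpec.hom_inv_id_assoc]
    exact IsOpenImmersion.lift_fac _ _ _
  have hrange : hU.fromSpec '' Set.range (Spec.map φ) = Set.range f ∩ U := by
    rw [← Set.range_comp, ← TopCat.coe_comp, ← Scheme.Hom.comp_base, hcomp, Scheme.Hom.comp_base,
      TopCat.coe_comp, Set.range_comp, hp]
    exact (Set.image_preimage_eq_inter_range).trans (Set.inter_comm _ _)
  obtain ⟨z, rfl⟩ : y ∈ Set.range hU.fromSpec := by rw [hU.range_fromSpec]; exact hyU
  have hz : z ∈ closure (Set.range (Spec.map φ)) := by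
    have h1 := hU.fromSpec.isOpenEmbedding.isInducing.closure_eq_preimage_closure_image
      (Set.range (Spec.map φ))
    rw [h1, hrange]
    exact closure_mono (Set.inter_comm _ _).le (U.isOpen.inter_closure ⟨hyU, hy⟩)
  have hz' := (PrimeSpectrum.closure_range_comap φ.hom).le hz
  have : (z : PrimeSpectrum Γ(Y, U)).asIdeal.IsPrime := (z : PrimeSpectrum Γ(Y, U)).isPrime
  obtain ⟨w, -, hw, hwle⟩ := (z : PrimeSpectrum Γ(Y, U)).asIdeal.exists_ideal_comap_le_prime
    (f := φ.hom) (⊥ : Ideal R) (by rw [← RingHom.ker_eq_comap_bot]; exact hz')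
  let w' : Spec R := (⟨w, hw⟩ : PrimeSpectrum R)
  refine ⟨p w', ?_⟩
  rw [← Scheme.Hom.comp_apply p f w', ← hcomp, Scheme.Hom.comp_apply]
  exact ((PrimeSpectrum.le_iff_specializes _ z).mp hwle).map hU.fromSpec.continuous

theorem isClosed_range_of_stableUnderSpecialization {X Y : Scheme.{u}} (f : X ⟶ Y) [QuasiCompact f]
    (h : StableUnderSpecialization (Set.range f)) : IsClosed (Set.range f) := by
  refine isClosed_of_closure_subset fun y hy => ?_
  obtain ⟨x, hx⟩ := exists_specializes_of_mem_closure_range f hy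
  exact h hx ⟨x, rfl⟩

theorem closure_singleton_mem_irreducibleComponents_iff {α : Type*} [TopologicalSpace α]
    [QuasiSober α] [T0Space α] (y : α) :
    closure {y} ∈ irreducibleComponents α ↔ ∀ y', y' ⤳ y → y' = y := by
  constructor
  · intro h y' hy'
    have hle : closure {y} ⊆ closure {y'} :=
      closure_minimal (Set.singleton_subset_iff.mpr hy'.mem_closure) isClosed_closure
    have h2 := h.2 isIrreducible_singleton.closure hle (subset_closure rfl)
    exact hy'.antisymm (specializes_iff_mem_closure.mpr h2) |>.eq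
  · intro h
    refine ⟨isIrreducible_singleton.closure, fun Z hZ hle => ?_⟩
    have hg := hZ.isGenericPoint_genericPoint_closure
    have hs : hZ.genericPoint ⤳ y := hg.specializes (subset_closure (hle (subset_closure rfl)))
    rw [← h _ hs, hg.def]
    exact subset_closure

theorem exists_maximal_specializes {α : Type*} [TopologicalSpace α] [QuasiSober α] [T0Space α]
    (y : α) : ∃ η, η ⤳ y ∧ closure {η} ∈ irreducibleComponents α ∧ ∀ y', y' ⤳ η → y' = η := by
  obtain ⟨Z, hZ, hyZ⟩ := exists_mem_irreducibleComponents_subset_of_isIrreducible {y}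
    isIrreducible_singleton
  have hg := hZ.1.isGenericPoint_genericPoint (isClosed_of_mem_irreducibleComponents Z hZ)
  have hm : closure {hZ.1.genericPoint} ∈ irreducibleComponents α := by rw [hg.def]; exact hZ
  exact ⟨_, hg.specializes (hyZ rfl), hm, (closure_singleton_mem_irreducibleComponents_iff _).mp hm⟩

end Groth.Agent.Topo.QCImage
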