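import Mathlib.AlgebraicGeometry.Morphisms.Integral
import Mathlib.RingTheory.Ideal.GoingUp
import Mathlib.Topology.KrullDimension
import Mathlib.RingTheory.KrullDimension.Basic

set_option autoImplicit false
open CategoryTheory AlgebraicGeometry
universe u v

namespace Groth.Agent.Topo.IntegralDim

theorem dim_le {X Y : Type*} [TopologicalSpace X] [TopologicalSpace Y] [QuasiSober X] (f : X → Y) (hc : Continuous f) (hcl : IsClosedMap f) (hfib : ∀ x y : X, x ⤳ y → f x = f y → y ⤳ x) : topologicalKrullDim X ≤ topologicalKrullDim Y := by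
  refine Order.krullDim_le_of_strictMono (TopologicalSpace.IrreducibleCloseds.map f hc) ?_
  intro Z W h
  refine lt_of_le_of_ne ?_ ?_
  · intro y hy
    exact closure_mono (Set.image_mono h.le) hy
  · intro he
    apply h.ne
    have he' : f '' (Z : Set X) = f '' (W : Set X) := by
      have := congr_arg (fun T : TopologicalSpace.IrreducibleCloseds Y => (T : Set Y)) he
      simpa [TopologicalSpace.IrreducibleCloseds.coe_map, (hcl _ Z.isClosed).closure_eq, (hcl _ W.isClosed).closure_eq] using this
    refine le_antisymm h.le ?_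
    obtain ⟨w, hw⟩ := W.isIrreducible.isGenericPoint_genericPoint_closure |> fun q => (⟨_, q⟩ : ∃ w, IsGenericPoint w (closure (W : Set X)))
    rw [W.isClosed.closure_eq] at hw
    obtain ⟨z, hz, hzw⟩ : f w ∈ f '' (Z : Set X) := he' ▸ ⟨w, hw.mem, rfl⟩
    have hwz : w ⤳ z := hw.specializes (h.le hz)
    have hzw' : z ⤳ w := hfib _ _ hwz hzw.symm
    intro x hx
    exact ((hzw'.trans (hw.specializes hx))).mem_closed Z.isClosed hz

theorem dim_ge {X Y : Type*} [TopologicalSpace X] [TopologicalSpace Y] [QuasiSober Y] (f : X → Y) (hcl : IsClosedMap f) (hc : Continuous f) (hs : Function.Surjective f) : topologicalKrullDim Y ≤ topologicalKrullDim X := by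
  have lift : ∀ (n : ℕ) (s : LTSeries (TopologicalSpace.IrreducibleCloseds Y)), s.length = n → ∃ t : LTSeries (TopologicalSpace.IrreducibleCloseds X), t.length = n ∧ f '' (t.head : Set X) = s.head := by
    intro n
    induction n with
    | zero =>
      intro s hs0
      obtain ⟨y, hy⟩ : ∃ y, IsGenericPoint y (s.head : Set Y) := ⟨_, by
        have := s.head.isIrreducible.isGenericPoint_genericPoint_closure
        rwa [s.head.isClosed.closure_eq] at this⟩
      obtain ⟨x, rfl⟩ := hs y
      refine ⟨RelSeries.singleton _ ⟨closure {x}, isIrreducible_singleton.closure, isClosed_closure⟩, rfl, ?_⟩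
      change f '' closure {x} = _
      rw [← hcl.closure_image_eq_of_continuous hc, Set.image_singleton]; exact hy.def
    | succ n ih =>
      intro s hsn
      obtain ⟨t, htn, hth⟩ := ih (s.tail (by omega)) (by simp [hsn])
      obtain ⟨y, hy⟩ : ∃ y, IsGenericPoint y (s.head : Set Y) := ⟨_, by
        have := s.head.isIrreducible.isGenericPoint_genericPoint_closure
        rwa [s.head.isClosed.closure_eq] at this⟩
      have hlt : s.head < s 1 := by
        have := s.strictMono (show (0 : Fin (s.length + 1)) < 1 from by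
          rw [Fin.lt_def]; simp [Fin.val_one', hsn])
        exact this
      rw [RelSeries.head_tail] at hth
      obtain ⟨x, hx, rfl⟩ : y ∈ f '' (t.head : Set X) := hth ▸ hlt.le hy.mem
      have himg : f '' closure {x} = (s.head : Set Y) := by
        rw [← hcl.closure_image_eq_of_continuous hc, Set.image_singleton]; exact hy.def
      refine ⟨t.cons ⟨closure {x}, isIrreducible_singleton.closure, isClosed_closure⟩ ?_, ?_, ?_⟩
      rotate_left
      · simp [RelSeries.cons, RelSeries.singleton, htn]
      · rw [RelSeries.head_cons]; exact himg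
      refine lt_of_le_of_ne (t.head.isClosed.closure_subset_iff.mpr (by simpa using hx)) ?_
      intro he
      apply hlt.ne
      apply SetLike.coe_injective
      rw [← himg, ← hth, ← he]
  refine iSup_le fun s => ?_
  obtain ⟨t, ht, -⟩ := lift s.length s rfl
  exact ht ▸ le_iSup (fun q : LTSeries (TopologicalSpace.IrreducibleCloseds X) => ((q.length : ℕ) : WithBot ℕ∞)) t

theorem fib {X S : Scheme.{u}} (f : X ⟶ S) [IsIntegralHom f] (x z : X) (hs : x ⤳ z) (he : f x = f z) : z ⤳ x := by
  obtain ⟨_, ⟨V, hV, rfl⟩, hzV, -⟩ := S.isBasis_affineOpens.exists_subset_of_mem_open (Set.mem_univ (f z)) isOpen_univ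
  have hW : IsAffineOpen (f ⁻¹ᵁ V) := hV.preimage f
  have hxW : x ∈ f ⁻¹ᵁ V := by change f x ∈ V; rw [he]; exact hzV
  have hint : (f.appLE V (f ⁻¹ᵁ V) le_rfl).hom.IsIntegral := by
    rw [← f.app_eq_appLE]; exact f.isIntegral_app V hV
  algebraize [(f.appLE V (f ⁻¹ᵁ V) le_rfl).hom]
  have hle : hW.primeIdealOf ⟨x, hxW⟩ ≤ hW.primeIdealOf ⟨z, hzV⟩ := by
    rw [PrimeSpectrum.le_iff_specializes]
    refine hW.fromSpec.isOpenEmbedding.isInducing.specializes_iff.mp ?_
    simpa [IsAffineOpen.fromSpec_primeIdealOf] using hs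
  rcases lt_or_eq_of_le hle with hlt | heq
  · exfalso
    apply ne_of_lt (Ideal.IsIntegral.comap_lt_comap (R := Γ(S, V)) (show (hW.primeIdealOf ⟨x, hxW⟩).asIdeal < _ from hlt))
    have h1 := IsAffineOpen.comap_primeIdealOf_appLE (f := f) (x := x) V hV (f ⁻¹ᵁ V) hW le_rfl hxW
    have h2 := IsAffineOpen.comap_primeIdealOf_appLE (f := f) (x := z) V hV (f ⁻¹ᵁ V) hW le_rfl hzV
    have h3 : hV.primeIdealOf ⟨f x, hxW⟩ = hV.primeIdealOf ⟨f z, hzV⟩ := congr_arg _ (Subtype.ext he)
    exact congr_arg PrimeSpectrum.asIdeal ((h1.trans h3).trans h2.symm)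
  · have := congr_arg hW.fromSpec heq
    simp only [IsAffineOpen.fromSpec_primeIdealOf] at this
    rw [this]

end Groth.Agent.Topo.IntegralDim
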